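import Mathlib
import Cfsg.Agent.SmallPerm.DegreeSix
import Cfsg.Agent.SylowToolkit.Basic
import Cfsg.Agent.SylowToolkit.Counting

/-!
Subgroups of `Alt 8` of order divisible by five.
-/

set_option autoImplicit false

namespace CfsgLib.GL4F2

open Subgroup

/-- An element of prime order `q`, `q` prime to `p - 1`, normalizing a group of order `p` centralizes it. -/
theorem commute_of_normalizes {K : Type*} [Group K] {a b : K} {p q : ℕ} (hp : p.Prime)
    (hb : orderOf b = p) (ha : orderOf a = q) (hq : 0 < q) (hcop : q.Coprime (p - 1))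
    (hn : a * b * a⁻¹ ∈ Subgroup.zpowers b) : Commute a b := by
  haveI := Fact.mk hp
  obtain ⟨r, hr⟩ : ∃ r : ℕ, b ^ r = a * b * a⁻¹ := by
    have hfin : IsOfFinOrder b := orderOf_pos_iff.mp (by rw [hb]; exact hp.pos)
    exact hfin.mem_powers_iff_mem_zpowers.mpr hn
  have hiter : ∀ k : ℕ, a ^ k * b * (a ^ k)⁻¹ = b ^ (r ^ k) := by
    intro k
    induction k with
    | zero => simp
    | succ k ih =>
      calc a ^ (k + 1) * b * (a ^ (k + 1))⁻¹ = MulAut.conj (a ^ k) (a * b * a⁻¹) := by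
            rw [MulAut.conj_apply, pow_succ]; group
        _ = (MulAut.conj (a ^ k) b) ^ r := by rw [← hr, map_pow]
        _ = _ := by rw [MulAut.conj_apply, ih, ← pow_mul, pow_succ]
  have h1 := hiter q
  rw [← ha, pow_orderOf_eq_one, ha] at h1
  have h2 : b ^ (r ^ q) = b ^ 1 := by rw [← h1, pow_one]; group
  rw [pow_eq_pow_iff_modEq, hb, ← ZMod.natCast_eq_natCast_iff, Nat.cast_pow, Nat.cast_one] at h2
  have hrne : (r : ZMod p) ≠ 0 := fun h => by
    rw [h, zero_pow hq.ne'] at h2
    exact zero_ne_one h2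
  have h3 : (r : ZMod p) = 1 := by
    have hd : orderOf (r : ZMod p) ∣ Nat.gcd q (p - 1) :=
      Nat.dvd_gcd (orderOf_dvd_of_pow_eq_one h2) (orderOf_dvd_of_pow_eq_one (ZMod.pow_card_sub_one_eq_one hrne))
    rw [hcop.gcd_eq_one, Nat.dvd_one, orderOf_eq_one_iff] at hd
    exact hd
  have h4 : b ^ r = b ^ 1 := by
    rw [pow_eq_pow_iff_modEq, hb, ← ZMod.natCast_eq_natCast_iff, Nat.cast_one]
    exact h3
  rw [pow_one, hr] at h4
  exact mul_inv_eq_iff_eq_mul.mp h4

/-- The normalizer of a Sylow subgroup of order `p` contains no element of order `q` in the situation of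
`commute_of_normalizes`, unless there is a commuting pair. -/
theorem exists_commute_of_dvd_normalizer {K : Type*} [Group K] [Finite K] {p q : ℕ} [Fact p.Prime]
    [Fact q.Prime] (P : Sylow p K) (hP : Nat.card P = p) (hcop : q.Coprime (p - 1))
    (h : q ∣ Nat.card ↥(Subgroup.normalizer ((P : Subgroup K) : Set K))) :
    ∃ a b : K, Commute a b ∧ orderOf a = q ∧ orderOf b = p ∧ b ∈ (P : Subgroup K) := by
  obtain ⟨a, ha⟩ := exists_prime_orderOf_dvd_card'
    (G := ↥(Subgroup.normalizer ((P : Subgroup K) : Set K))) q h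
  rw [← Subgroup.orderOf_coe] at ha
  obtain ⟨b, hb⟩ := exists_prime_orderOf_dvd_card' (G := ↥(P : Subgroup K)) p (by rw [hP])
  rw [← Subgroup.orderOf_coe] at hb
  have hzp : Subgroup.zpowers (b : K) = (P : Subgroup K) :=
    Subgroup.eq_of_le_of_card_ge (Subgroup.zpowers_le.mpr b.2) (by rw [Nat.card_zpowers, hb, hP])
  refine ⟨a, b, commute_of_normalizes (Fact.out : p.Prime) hb ha (Fact.out : q.Prime).pos hcop ?_, ha, hb, b.2⟩
  rw [hzp]
  exact (Subgroup.mem_normalizer_iff.mp a.2 (b : K)).mp b.2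

/-- A group of order 105 has commuting elements of orders 5 and 7. -/
theorem exists_commute_of_card_105 {K : Type*} [Group K] [Finite K] (hK : Nat.card K = 105) :
    ∃ a b : K, Commute a b ∧ orderOf a = 7 ∧ orderOf b = 5 := by
  haveI : Fact (Nat.Prime 5) := ⟨by norm_num⟩
  haveI : Fact (Nat.Prime 7) := ⟨by norm_num⟩
  obtain ⟨P⟩ : Nonempty (Sylow 5 K) := inferInstance
  obtain ⟨Q⟩ : Nonempty (Sylow 7 K) := inferInstance
  have hP : Nat.card P = 5 := by
    simpa using CfsgLib.SylowToolkit.card_sylow_subgroup_eq (p := 5) (k := 1) (m := 21) (by rw [hK]; norm_num) (by norm_num) P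
  have hQ : Nat.card Q = 7 := by
    simpa using CfsgLib.SylowToolkit.card_sylow_subgroup_eq (p := 7) (k := 1) (m := 15) (by rw [hK]; norm_num) (by norm_num) Q
  have h5 : Nat.card (Sylow 5 K) ∣ 21 :=
    CfsgLib.SylowToolkit.card_sylow_dvd (p := 5) (k := 1) (by rw [hK]; norm_num) (by norm_num)
  have h5' : Nat.card (Sylow 5 K) % 5 = 1 := CfsgLib.SylowToolkit.card_sylow_mod
  have h7 : Nat.card (Sylow 7 K) ∣ 15 :=
    CfsgLib.SylowToolkit.card_sylow_dvd (p := 7) (k := 1) (by rw [hK]; norm_num) (by norm_num)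
  have h7' : Nat.card (Sylow 7 K) % 7 = 1 := CfsgLib.SylowToolkit.card_sylow_mod
  have hN5 := Subgroup.index_mul_card (Subgroup.normalizer ((P : Subgroup K) : Set K))
  rw [show (Subgroup.normalizer ((P : Subgroup K) : Set K)).index = Nat.card (Sylow 5 K) from
    (Sylow.card_eq_index_normalizer P).symm, hK] at hN5
  have hN7 := Subgroup.index_mul_card (Subgroup.normalizer ((Q : Subgroup K) : Set K))
  rw [show (Subgroup.normalizer ((Q : Subgroup K) : Set K)).index = Nat.card (Sylow 7 K) from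
    (Sylow.card_eq_index_normalizer Q).symm, hK] at hN7
  have hle5 := Nat.le_of_dvd (by norm_num) h5
  have hle7 := Nat.le_of_dvd (by norm_num) h7
  by_cases e5 : Nat.card (Sylow 5 K) = 1
  · rw [e5, one_mul] at hN5
    obtain ⟨a, b, h, ha, hb, -⟩ := exists_commute_of_dvd_normalizer (q := 7) P hP (by norm_num)
      (by rw [hN5]; norm_num)
    exact ⟨a, b, h, ha, hb⟩
  by_cases e7 : Nat.card (Sylow 7 K) = 1
  · rw [e7, one_mul] at hN7
    obtain ⟨a, b, h, ha, hb, -⟩ := exists_commute_of_dvd_normalizer (q := 5) Q hQ (by norm_num)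
      (by rw [hN7]; norm_num)
    exact ⟨b, a, h.symm, hb, ha⟩
  exfalso
  have c5 : Nat.card (Sylow 5 K) = 21 := by
    generalize Nat.card (Sylow 5 K) = n at h5 h5' hle5 e5
    interval_cases n <;> omega
  have c7 : Nat.card (Sylow 7 K) = 15 := by
    generalize Nat.card (Sylow 7 K) = n at h7 h7' hle7 e7
    interval_cases n <;> omega
  have hcount := CfsgLib.SylowToolkit.one_add_sum_card_orderOf_le (G := K) {5, 7} (by simp)
  rw [Finset.sum_pair (by norm_num : (5 : ℕ) ≠ 7),
    CfsgLib.SylowToolkit.card_orderOf_eq_prime (p := 5) (m := 21) (by rw [hK]) (by norm_num),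
    CfsgLib.SylowToolkit.card_orderOf_eq_prime (p := 7) (m := 15) (by rw [hK]) (by norm_num), c5, c7, hK] at hcount
  omega

/-- An element of prime order `q ≠ 5` commuting with an element of order 5 of `Sym 8` fixes every point
moved by it. -/
theorem fixes_moved_of_commute {σ τ : Equiv.Perm (Fin 8)} (h : Commute σ τ) (hσ : orderOf σ = 5)
    {q : ℕ} (hq : q.Prime) (hq5 : q ≠ 5) (hτ : orderOf τ = q) {x : Fin 8} (hx : σ x ≠ x) : τ x = x := by
  have hcyc : σ.IsCycle := Equiv.Perm.isCycle_of_prime_order' (by rw [hσ]; norm_num) (by rw [hσ]; simp)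
  have hτx : σ (τ x) ≠ τ x := by
    intro he
    apply hx
    apply τ.injective
    have := DFunLike.congr_fun h.eq x
    simp only [Equiv.Perm.mul_apply] at this
    rw [← this]; exact he
  obtain ⟨i, hi⟩ := hcyc.exists_pow_eq hx hτx
  have hiter : ∀ k : ℕ, (τ ^ k) x = (σ ^ (i * k)) x := by
    intro k
    induction k with
    | zero => simp
    | succ k ih =>
      rw [pow_succ', Equiv.Perm.mul_apply, ih, mul_add, mul_one, pow_add, Equiv.Perm.mul_apply, hi]
      exact (DFunLike.congr_fun ((h.pow_left (i * k)).eq) x).symm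
  have hq1 := hiter q
  rw [← hτ, pow_orderOf_eq_one, hτ, Equiv.Perm.one_apply] at hq1
  have h1 : σ ^ (i * q) = 1 := (hcyc.pow_eq_one_iff' hx).mpr hq1.symm
  have h5 : (5 : ℕ) ∣ i * q := hσ ▸ orderOf_dvd_of_pow_eq_one h1
  rcases (Nat.Prime.dvd_mul (by norm_num)).mp h5 with h5 | h5
  · obtain ⟨j, rfl⟩ := h5
    rw [← hi, pow_mul, show (5 : ℕ) = orderOf σ from hσ.symm, pow_orderOf_eq_one, one_pow,
      Equiv.Perm.one_apply]
  · exact absurd ((Nat.prime_dvd_prime_iff_eq (by norm_num) hq).mp h5).symm hq5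

/-- Elements of orders 5 and `q` commute in `Sym 8` only if `q ≤ 3`; for `q = 3` the second is a 3-cycle
moving exactly the fixed points of the first. -/
theorem commute_order_five {σ τ : Equiv.Perm (Fin 8)} (h : Commute σ τ) (hσ : orderOf σ = 5)
    {q : ℕ} (hq : q.Prime) (hq5 : q ≠ 5) (hτ : orderOf τ = q) :
    q ≤ 3 ∧ (q = 3 → τ.IsThreeCycle ∧ ∀ x, τ x = x ↔ σ x ≠ x) := by
  have hsub : τ.support ⊆ Finset.univ \ σ.support := fun x hx =>
    Finset.mem_sdiff.mpr ⟨Finset.mem_univ _, fun hxσ =>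
      Equiv.Perm.mem_support.mp hx (fixes_moved_of_commute h hσ hq hq5 hτ (Equiv.Perm.mem_support.mp hxσ))⟩
  have hcyc : σ.IsCycle := Equiv.Perm.isCycle_of_prime_order' (by rw [hσ]; norm_num) (by rw [hσ]; simp)
  have hcard : (Finset.univ \ σ.support).card = 3 := by
    rw [Finset.card_univ_sdiff, ← hcyc.orderOf, hσ, Fintype.card_fin]
  have h3 : τ.support.card ≤ 3 := hcard ▸ Finset.card_le_card hsub
  have hτc : τ.IsCycle := by
    refine Equiv.Perm.isCycle_of_prime_order (by rw [hτ]; exact hq) ?_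
    rw [hτ]
    have := hq.two_le
    omega
  have heq : τ.support.card = q := by rw [← hτc.orderOf, hτ]
  refine ⟨heq ▸ h3, fun hq3 => ⟨card_support_eq_three_iff.mp (by rw [heq, hq3]), fun x => ?_⟩⟩
  have hse : τ.support = Finset.univ \ σ.support :=
    Finset.eq_of_subset_of_card_le hsub (by rw [hcard, heq, hq3])
  have hx := Finset.ext_iff.mp hse x
  simp only [Equiv.Perm.mem_support, Finset.mem_sdiff, Finset.mem_univ, true_and, not_not] at hx
  constructor
  · intro h1 h2; exact hx.mpr h2 h1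
  · intro h1; by_contra h2; exact h1 (hx.mp h2)

/-- The degree seven case: a subgroup of `Alt 8` fixing a point of order divisible by 35 is the whole
point stabilizer. -/
theorem card_of_fixed_of_dvd (H : Subgroup (Equiv.Perm (Fin 8))) (hA : H ≤ alternatingGroup (Fin 8))
    (k : Fin 8) (hk : ∀ h ∈ H, h k = k) (h35 : 35 ∣ Nat.card ↥H) :
    Nonempty (↥H ≃* ↥(alternatingGroup (Fin 7))) := by
  haveI : Fact (Nat.Prime 2) := ⟨Nat.prime_two⟩
  haveI : Fact (Nat.Prime 3) := ⟨by norm_num⟩
  haveI : Fact (Nat.Prime 5) := ⟨by norm_num⟩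
  haveI : Fact (Nat.Prime 7) := ⟨by norm_num⟩
  set A := alternatingGroup (Fin 8) with hAdef
  set S := (MulAction.stabilizer (Equiv.Perm (Fin 8)) k).subgroupOf A with hS
  obtain ⟨eS⟩ := CfsgLib.SmallPerm.alt_stabilizer_equiv (n := 7) (by norm_num) k
  have hA7 : Nat.card ↥(alternatingGroup (Fin 7)) = 2520 := by
    rw [nat_card_alternatingGroup]; simp [Nat.card_fin, Nat.factorial]
  -- `H` as a subgroup of `Alt 7`
  let j : ↥H →* ↥(alternatingGroup (Fin 7)) := eS.toMonoidHom.comp
    { toFun := fun h => ⟨⟨h.1, hA h.2⟩, hk h.1 h.2⟩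
      map_one' := rfl
      map_mul' := fun _ _ => rfl }
  have hj : Function.Injective j := fun a b h => Subtype.ext
    (congrArg (fun z => ((z.1 : ↥A) : Equiv.Perm (Fin 8))) (eS.injective h))
  set T := j.range with hT
  have hcardT : Nat.card ↥H = Nat.card ↥T := Nat.card_congr (MonoidHom.ofInjective hj).toEquiv
  by_cases htop : T = ⊤
  · exact ⟨(MonoidHom.ofInjective hj).trans ((MulEquiv.subgroupCongr htop).trans Subgroup.topEquiv)⟩
  exfalso
  -- index at least seven
  haveI : IsSimpleGroup ↥(alternatingGroup (Fin 7)) := alternatingGroup.isSimpleGroup (by simp)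
  have hidx : 7 ≤ T.index := by
    obtain ⟨ψ, a, hker, -⟩ := CfsgLib.SmallPerm.exists_coset_hom T rfl
    have hinj : Function.Injective ψ := by
      rw [← MonoidHom.ker_eq_bot_iff]
      rcases (inferInstance : ψ.ker.Normal).eq_bot_or_eq_top with h | h
      · exact h
      · exact absurd (top_le_iff.mp (h ▸ hker)) htop
    have h := Nat.card_le_card_of_injective ψ hinj
    rw [Nat.card_perm, Nat.card_fin, hA7] at h
    by_contra hlt
    have : T.index.factorial ≤ Nat.factorial 6 := Nat.factorial_le (by omega)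
    simp [Nat.factorial] at this
    omega
  have hprod := Subgroup.index_mul_card T
  rw [← hcardT, hA7] at hprod
  obtain ⟨d, hd⟩ := h35
  have hd' : d ∣ 72 := ⟨T.index, by rw [hd] at hprod; nlinarith⟩
  have hd10 : d ≤ 10 := by rw [hd] at hprod; nlinarith
  -- no element of order 7 normalizes a Sylow 5, no element of order 5 a Sylow 7
  have hcommf : ∀ a b : ↥H, Commute a b → orderOf b = 5 → orderOf a ≠ 7 := by
    intro a b hab hb ha
    have h5 : orderOf (b : Equiv.Perm (Fin 8)) = 5 := by rw [Subgroup.orderOf_coe]; exact hb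
    have := (commute_order_five (hab.symm.map H.subtype) h5 (q := 7) (by norm_num) (by norm_num)
      (show orderOf ((a : ↥H) : Equiv.Perm (Fin 8)) = 7 by rw [Subgroup.orderOf_coe]; exact ha)).1
    omega
  have hd0 : 0 < d := by
    rcases Nat.eq_zero_or_pos d with h | h
    · rw [h] at hd; exact absurd hd Nat.card_pos.ne'
    · exact h
  have hcop5 : ¬ 5 ∣ 7 * d := by
    intro h
    have h' : 5 ∣ d := (Nat.Coprime.dvd_mul_left (by norm_num)).mp h
    have : 5 ∣ 72 := h'.trans hd'
    norm_num at this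
  have hcop7 : ¬ 7 ∣ 5 * d := by
    intro h
    have h' : 7 ∣ d := (Nat.Coprime.dvd_mul_left (by norm_num)).mp h
    have : 7 ∣ 72 := h'.trans hd'
    norm_num at this
  have hH5 : Nat.card ↥H = 5 ^ 1 * (7 * d) := by rw [hd]; ring
  have hH7 : Nat.card ↥H = 7 ^ 1 * (5 * d) := by rw [hd]; ring
  obtain ⟨P⟩ : Nonempty (Sylow 5 ↥H) := inferInstance
  obtain ⟨Q⟩ : Nonempty (Sylow 7 ↥H) := inferInstance
  have hP : Nat.card P = 5 := CfsgLib.SylowToolkit.card_sylow_subgroup_eq hH5 hcop5 P
  have hQ : Nat.card Q = 7 := CfsgLib.SylowToolkit.card_sylow_subgroup_eq hH7 hcop7 Q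
  have n5 := CfsgLib.SylowToolkit.card_sylow_dvd (p := 5) hH5 hcop5
  have n7 := CfsgLib.SylowToolkit.card_sylow_dvd (p := 7) hH7 hcop7
  have m5 : Nat.card (Sylow 5 ↥H) % 5 = 1 := CfsgLib.SylowToolkit.card_sylow_mod
  have m7 : Nat.card (Sylow 7 ↥H) % 7 = 1 := CfsgLib.SylowToolkit.card_sylow_mod
  have hN5 := Subgroup.index_mul_card (Subgroup.normalizer ((P : Subgroup ↥H) : Set ↥H))
  rw [show (Subgroup.normalizer ((P : Subgroup ↥H) : Set ↥H)).index = Nat.card (Sylow 5 ↥H) from
    (Sylow.card_eq_index_normalizer P).symm, hd] at hN5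
  have hN7 := Subgroup.index_mul_card (Subgroup.normalizer ((Q : Subgroup ↥H) : Set ↥H))
  rw [show (Subgroup.normalizer ((Q : Subgroup ↥H) : Set ↥H)).index = Nat.card (Sylow 7 ↥H) from
    (Sylow.card_eq_index_normalizer Q).symm, hd] at hN7
  have n5' : 7 ∣ Nat.card (Sylow 5 ↥H) := by
    by_contra h
    have h7 : 7 ∣ Nat.card ↥(Subgroup.normalizer ((P : Subgroup ↥H) : Set ↥H)) :=
      ((Nat.Prime.coprime_iff_not_dvd (by norm_num)).mpr h).dvd_of_dvd_mul_left
        (hN5 ▸ (dvd_mul_of_dvd_left (by norm_num : 7 ∣ 35) d))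
    obtain ⟨a, b, hab, ha, hb, -⟩ := exists_commute_of_dvd_normalizer (q := 7) P hP (by norm_num) h7
    exact hcommf a b hab hb ha
  have n7' : 5 ∣ Nat.card (Sylow 7 ↥H) := by
    by_contra h
    have h5 : 5 ∣ Nat.card ↥(Subgroup.normalizer ((Q : Subgroup ↥H) : Set ↥H)) :=
      ((Nat.Prime.coprime_iff_not_dvd (by norm_num)).mpr h).dvd_of_dvd_mul_left
        (hN7 ▸ (dvd_mul_of_dvd_left (by norm_num : 5 ∣ 35) d))
    obtain ⟨a, b, hab, ha, hb, -⟩ := exists_commute_of_dvd_normalizer (q := 5) Q hQ (by norm_num) h5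
    exact hcommf b a hab.symm ha hb
  obtain ⟨u, hu⟩ := n5'
  obtain ⟨w, hw⟩ := n7'
  rw [hu] at n5 m5 hN5
  rw [hw] at n7 m7 hN7
  have hud : u ∣ d := Nat.dvd_of_mul_dvd_mul_left (by norm_num) n5
  have hwd : w ∣ d := Nat.dvd_of_mul_dvd_mul_left (by norm_num) n7
  have hule := Nat.le_of_dvd hd0 hud
  have hwle := Nat.le_of_dvd hd0 hwd
  have hw10 : w ≤ 10 := by omega
  have hu10 : u ≤ 10 := by omega
  have hw3 : w = 3 := by
    have hw72 : w ∣ 72 := hwd.trans hd'
    interval_cases w <;> omega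
  have hu3 : u = 3 := by
    subst hw3
    have hu72 : u ∣ 72 := hud.trans hd'
    interval_cases u <;> omega
  subst hw3 hu3
  obtain ⟨c, hc⟩ := hud
  subst hc
  have hc3 : c ≤ 3 := by omega
  have hc0 : 1 ≤ c := by omega
  interval_cases c
  · -- order 105
    obtain ⟨a, b, hab, ha, hb⟩ := exists_commute_of_card_105 (K := ↥H) (by rw [hd])
    exact hcommf a b hab hb ha
  · -- order 210
    obtain ⟨K, hKn, hK⟩ := CfsgLib.SmallPerm.exists_normal_index_two (G := ↥H) (m := 105) (by rw [hd]) ⟨52, rfl⟩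
    have hKc := Subgroup.index_mul_card K
    rw [hK, hd] at hKc
    obtain ⟨a, b, hab, ha, hb⟩ := exists_commute_of_card_105 (K := ↥K) (by omega)
    exact hcommf (a : ↥H) b (hab.map K.subtype) (by rw [Subgroup.orderOf_coe]; exact hb)
      (by rw [Subgroup.orderOf_coe]; exact ha)
  · -- order 315
    have h3 : 3 ∣ Nat.card ↥(Subgroup.normalizer ((P : Subgroup ↥H) : Set ↥H)) := by omega
    obtain ⟨a, b, hab, ha, hb, -⟩ := exists_commute_of_dvd_normalizer (q := 3) P hP (by norm_num) h3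
    have h5 : orderOf (b : Equiv.Perm (Fin 8)) = 5 := by rw [Subgroup.orderOf_coe]; exact hb
    obtain ⟨-, hfix⟩ := (commute_order_five (hab.symm.map H.subtype) h5 (q := 3) (by norm_num) (by norm_num)
      (show orderOf ((a : ↥H) : Equiv.Perm (Fin 8)) = 3 by rw [Subgroup.orderOf_coe]; exact ha)).2 rfl
    exact (hfix k).mp (hk _ a.2) (hk _ b.2)

/-- The degree eight case. -/
theorem eq_alternating_of_transitive (H : Subgroup (Equiv.Perm (Fin 8)))
    (hA : H ≤ alternatingGroup (Fin 8)) (htrans : MulAction.orbit ↥H (0 : Fin 8) = Set.univ)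
    (h5 : 5 ∣ Nat.card ↥H) : H = alternatingGroup (Fin 8) := by
  classical
  haveI : Fact (Nat.Prime 3) := ⟨by norm_num⟩
  haveI : Fact (Nat.Prime 5) := ⟨by norm_num⟩
  haveI hpre : MulAction.IsPretransitive ↥H (Fin 8) := by
    refine ⟨fun x y => ?_⟩
    obtain ⟨g, hg⟩ : x ∈ MulAction.orbit ↥H (0 : Fin 8) := htrans ▸ Set.mem_univ x
    obtain ⟨g', hg'⟩ : y ∈ MulAction.orbit ↥H (0 : Fin 8) := htrans ▸ Set.mem_univ y
    exact ⟨g' * g⁻¹, by rw [← hg, ← hg', ← mul_smul, inv_mul_cancel_right]⟩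
  obtain ⟨P⟩ : Nonempty (Sylow 5 ↥H) := inferInstance
  have hP : Nat.card P = 5 := by
    rw [P.card_eq_multiplicity]
    have hH : Nat.card ↥H ∣ 20160 := by
      have := Subgroup.card_dvd_of_le hA
      rw [nat_card_alternatingGroup, Nat.card_fin] at this
      simpa [Nat.factorial] using this
    have h1 : 1 ≤ (Nat.card ↥H).factorization 5 :=
      (Nat.Prime.dvd_iff_one_le_factorization (by norm_num) Nat.card_pos.ne').mp h5
    have h2 : (Nat.card ↥H).factorization 5 ≤ 1 := by
      by_contra h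
      have h25 : 5 ^ 2 ∣ Nat.card ↥H :=
        (Nat.Prime.pow_dvd_iff_le_factorization (by norm_num) Nat.card_pos.ne').mpr (by omega)
      have := h25.trans hH
      norm_num at this
    rw [show (Nat.card ↥H).factorization 5 = 1 by omega, pow_one]
  obtain ⟨b, hb⟩ := exists_prime_orderOf_dvd_card' (G := ↥(P : Subgroup ↥H)) 5 (by rw [hP])
  rw [← Subgroup.orderOf_coe] at hb
  set σ : Equiv.Perm (Fin 8) := ((b : ↥H) : Equiv.Perm (Fin 8)) with hσdef
  have hσ : orderOf σ = 5 := by rw [hσdef, Subgroup.orderOf_coe]; exact hb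
  have hzp : Subgroup.zpowers (b : ↥H) = (P : Subgroup ↥H) :=
    Subgroup.eq_of_le_of_card_ge (Subgroup.zpowers_le.mpr b.2) (by rw [Nat.card_zpowers, hb, hP])
  have hfixP : ∀ x, σ x = x → (P : Subgroup ↥H) ≤ MulAction.stabilizer ↥H x := fun x hx => by
    rw [← hzp, Subgroup.zpowers_le]; exact hx
  -- the normalizer is transitive on the fixed points
  set N := Subgroup.normalizer ((P : Subgroup ↥H) : Set ↥H) with hN
  have hwitt : ∀ x y, σ x = x → σ y = y → ∃ n ∈ N, n • x = y := by
    intro x y hx hy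
    obtain ⟨g, hg⟩ := MulAction.exists_smul_eq ↥H x y
    have h1 : (g⁻¹ • P : Sylow 5 ↥H).toSubgroup ≤ MulAction.stabilizer ↥H x := by
      intro z hz
      rw [Sylow.coe_subgroup_smul, Subgroup.mem_pointwise_smul_iff_inv_smul_mem] at hz
      have hz' := hfixP y hy hz
      rw [MulAction.mem_stabilizer_iff, MulAut.smul_def] at hz'
      rw [MulAction.mem_stabilizer_iff]
      have h2 : (g * z * g⁻¹) • y = y := by simpa using hz'
      rw [← hg, mul_smul, mul_smul, inv_smul_smul] at h2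
      exact MulAction.injective g h2
    obtain ⟨h, hh⟩ := MulAction.exists_smul_eq ↥(MulAction.stabilizer ↥H x)
      (P.subtype (hfixP x hx)) ((g⁻¹ • P : Sylow 5 ↥H).subtype h1)
    rw [Sylow.smul_subtype] at hh
    have h2 : ((h : ↥H) • P : Sylow 5 ↥H) = g⁻¹ • P := Sylow.subtype_injective hh
    refine ⟨g * h, ?_, by rw [mul_smul, (h.2 : (h : ↥H) • x = x), hg]⟩
    exact Sylow.smul_eq_iff_mem_normalizer.mp (by rw [mul_smul, h2, smul_inv_smul])
  have hcyc : σ.IsCycle := Equiv.Perm.isCycle_of_prime_order' (by rw [hσ]; norm_num) (by rw [hσ]; simp)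
  have hfixcard : (Finset.univ \ σ.support).card = 3 := by
    rw [Finset.card_univ_sdiff, ← hcyc.orderOf, hσ, Fintype.card_fin]
  obtain ⟨x0, hx0⟩ := Finset.card_pos.mp (hfixcard ▸ (by norm_num) : 0 < (Finset.univ \ σ.support).card)
  have hx0' : σ x0 = x0 := by simpa [Equiv.Perm.mem_support] using hx0
  have horb : MulAction.orbit ↥N x0 = ↑(Finset.univ \ σ.support) := by
    ext y
    simp only [Finset.coe_sdiff, Finset.coe_univ, Set.mem_diff, Set.mem_univ, true_and, Finset.mem_coe,
      Equiv.Perm.mem_support, not_not]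
    constructor
    · rintro ⟨⟨n, hn⟩, rfl⟩
      have hnb : n⁻¹ * (b : ↥H) * n ∈ (P : Subgroup ↥H) := by
        have := (Subgroup.mem_normalizer_iff.mp (inv_mem hn) (b : ↥H)).mp b.2
        simpa using this
      have h1 : (n⁻¹ * (b : ↥H) * n) • x0 = x0 := hfixP x0 hx0' hnb
      rw [mul_smul, mul_smul, inv_smul_eq_iff] at h1
      exact h1
    · intro hy
      obtain ⟨n, hn, hny⟩ := hwitt x0 y hx0' hy
      exact ⟨⟨n, hn⟩, hny⟩
  have h3 : 3 ∣ Nat.card ↥N := by
    have h := Subgroup.index_dvd_card (MulAction.stabilizer ↥N x0)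
    rwa [Subgroup.index, Nat.card_congr (MulAction.orbitEquivQuotientStabilizer ↥N x0).symm, horb,
      Nat.card_coe_set_eq, Set.ncard_coe_finset, hfixcard] at h
  obtain ⟨a, c, hac, ha, hc, hcP⟩ := exists_commute_of_dvd_normalizer (q := 3) P hP (by norm_num) h3
  have hab : Commute a (b : ↥H) := by
    have hzc : Subgroup.zpowers c = (P : Subgroup ↥H) :=
      Subgroup.eq_of_le_of_card_ge (Subgroup.zpowers_le.mpr hcP) (by rw [Nat.card_zpowers, hc, hP])
    obtain ⟨i, hi⟩ := Subgroup.mem_zpowers_iff.mp (hzc.symm ▸ b.2 : (b : ↥H) ∈ Subgroup.zpowers c)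
    rw [← hi]; exact hac.zpow_right i
  set τ : Equiv.Perm (Fin 8) := ((a : ↥H) : Equiv.Perm (Fin 8)) with hτdef
  obtain ⟨hτ3, hfix⟩ := (commute_order_five (σ := σ) (τ := τ) (hab.symm.map H.subtype) hσ (q := 3)
    (by norm_num) (by norm_num) (by rw [hτdef, Subgroup.orderOf_coe]; exact ha)).2 rfl
  -- primitivity
  have hprim : MulAction.IsPreprimitive ↥H (Fin 8) := by
    refine MulAction.IsPreprimitive.of_isTrivialBlock_base x0 fun {B} hxB hB => ?_
    by_contra htriv
    rw [MulAction.IsTrivialBlock, not_or] at htriv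
    obtain ⟨hns, hnu⟩ := htriv
    have hdvd := hB.ncard_dvd_card ⟨x0, hxB⟩
    rw [Nat.card_fin] at hdvd
    have hle : B.ncard ≤ 8 := Nat.le_of_dvd (by norm_num) hdvd
    have hne8 : B.ncard ≠ 8 := fun h => hnu (Set.eq_of_subset_of_ncard_le (Set.subset_univ _)
      (by rw [h, Set.ncard_univ, Nat.card_fin]) (Set.toFinite _))
    have hne1 : B.ncard ≠ 1 := fun h => hns (by
      obtain ⟨y, hy⟩ := Set.ncard_eq_one.mp h
      rw [hy]; exact Set.subsingleton_singleton)
    have hpos : 0 < B.ncard := (Set.ncard_pos (Set.toFinite _)).mpr ⟨x0, hxB⟩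
    have hinv : ∀ g : ↥H, g • x0 ∈ B → ∀ y ∈ B, g • y ∈ B := by
      intro g hg y hy
      have := hB.smul_eq_of_nonempty (g := g) ⟨g • x0, Set.smul_mem_smul_set hxB, hg⟩
      rw [← this]
      exact Set.smul_mem_smul_set hy
    have hσB : ∀ y ∈ B, ∀ i : ℕ, (σ ^ i) y ∈ B := by
      intro y hy i
      induction i with
      | zero => exact hy
      | succ i ih =>
        rw [pow_succ', Equiv.Perm.mul_apply]
        exact hinv (b : ↥H) (by show σ x0 ∈ B; rw [hx0']; exact hxB) _ ih
    have hBfix : ∀ y ∈ B, σ y = y := by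
      intro y hy
      by_contra hyσ
      have hsub : insert x0 (σ.support : Set (Fin 8)) ⊆ B := by
        rintro z (rfl | hz)
        · exact hxB
        · obtain ⟨i, rfl⟩ := hcyc.exists_pow_eq hyσ (Equiv.Perm.mem_support.mp hz)
          exact hσB y hy i
      have h6 := Set.ncard_le_ncard hsub (Set.toFinite _)
      rw [Set.ncard_insert_of_notMem (by simp [Equiv.Perm.mem_support, hx0']) (Set.toFinite _),
        Set.ncard_coe_finset, ← hcyc.orderOf, hσ] at h6
      interval_cases hn : B.ncard <;> omega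
    have hB2 : B.ncard = 2 := by
      have h3' : B.ncard ≤ 3 := by
        rw [← hfixcard, ← Set.ncard_coe_finset]
        exact Set.ncard_le_ncard (fun y hy => by simp [Equiv.Perm.mem_support, hBfix y hy]) (Set.toFinite _)
      interval_cases hn : B.ncard <;> omega
    obtain ⟨y, z, hyz, hByz⟩ := Set.ncard_eq_two.mp hB2
    have hmoves : ∀ y ∈ B, τ y ≠ y := fun y hy h => ((hfix y).mp h) (hBfix y hy)
    have key : ∀ u v : Fin 8, B = {u, v} → τ u = v → τ v = u := by
      intro u v hBuv huv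
      have h1 := hB.smul_eq_of_nonempty (g := a)
        ⟨v, ⟨u, by rw [hBuv]; simp, huv⟩, by rw [hBuv]; simp⟩
      have h2 : τ v ∈ B := h1 ▸ Set.smul_mem_smul_set (show v ∈ B by rw [hBuv]; simp)
      rw [hBuv] at h2
      rcases h2 with h2 | h2
      · exact h2
      · exact absurd h2 (hmoves v (by rw [hBuv]; simp))
    -- `τ²` also stabilises a block meeting its image
    have hτ2 : ∀ u v : Fin 8, B = {u, v} → τ u = v → False := by
      intro u v hBuv huv
      have hvu := key u v hBuv huv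
      have h3 : (τ ^ 3) u = u := by
        rw [← hτ3.orderOf, pow_orderOf_eq_one, Equiv.Perm.one_apply]
      rw [pow_succ', pow_two, Equiv.Perm.mul_apply, Equiv.Perm.mul_apply, huv, hvu, huv] at h3
      exact hmoves u (by rw [hBuv]; simp) (huv.trans h3)
    have hfixset : Finset.univ \ σ.support = τ.support := by
      ext w; simp [Equiv.Perm.mem_support, (hfix w).not, Equiv.Perm.mem_support]
    have hy' : y ∈ B := by rw [hByz]; simp
    have hz' : z ∈ B := by rw [hByz]; simp
    obtain ⟨i, hi⟩ := hτ3.isCycle.exists_pow_eq (hmoves y hy') (hmoves z hz')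
    rw [← pow_mod_orderOf, hτ3.orderOf] at hi
    have := Nat.mod_lt i (show 3 > 0 by norm_num)
    interval_cases hi3 : i % 3
    · exact hyz (by simpa using hi)
    · exact hτ2 y z hByz (by simpa using hi)
    · refine hτ2 z y (by rw [hByz, Set.pair_comm]) ?_
      have h3 : (τ ^ 3) y = y := by rw [← hτ3.orderOf, pow_orderOf_eq_one, Equiv.Perm.one_apply]
      rw [pow_succ', Equiv.Perm.mul_apply, hi] at h3
      exact h3
  exact le_antisymm hA (Equiv.Perm.alternatingGroup_le_of_isPreprimitive_of_isThreeCycle_mem hprim hτ3 a.2)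

end CfsgLib.GL4F2
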